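import Cfsg.Agent.S0000
import Cfsg.Agent.OrdDiv.Table
import Cfsg.Agent.H940.EngData
import Cfsg.Agent.Prune
set_option linter.all false
prune_inst 0x7f00000000000000000000000000000000000000000000000000000000000000000000000000000000000000000000000000000000000000000000000000000000000000000000000000000000000000003fffffffffffffffffffffffffffbeffbdffffffff

/-!
# The input `Base` of the order engine (helper94, for S5527)
-/

set_option autoImplicit false

namespace Cfsg.Agent.BMx

/-- the table of the orders and the classification -/
theorem engBase : Cfsg.Agent.H940.Eng.Base :=
  ⟨Cfsg.Agent.OrdDiv.table.{0}, fun _ _ _ _ => Cfsg.Agent.S0000.result⟩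

end Cfsg.Agent.BMx
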